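import Mathlib
import Groth.Prelude.Def_Cyc
import Groth.Prelude.Def_ChowOps
import Groth.Agent.Lib.Helper7.FinDeg.Main
import Groth.Agent.Lib.Helper7.PushRat.Main

set_option linter.style.haveILetI false
set_option linter.unusedVariables false
set_option linter.unusedSectionVars false
set_option autoImplicit false
set_option backward.isDefEq.respectTransparency.types false
set_option synthInstance.maxHeartbeats 400000
set_option maxHeartbeats 1600000

namespace Groth.Agent.Helper7.ChowPI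

open CategoryTheory CategoryTheory.Limits AlgebraicGeometry TopologicalSpace Opposite IsLocalRing
open Groth.Agent.Helper7.Spz Groth.Agent.Helper7.KL Groth.Agent.Helper7.CycPull
open Groth.Agent.Helper7.FinDeg
open Groth.Agent.Lib.Helper4.FibDim1 Groth.Agent.Lib.Helper4.Aff2

universe u

/-! helper7: pushforward of cycles as a homomorphism on k-cycles preserving the subgroup of rationally trivial cycles; Chow groups under finite purely inseparable base change (S15556) -/

section Push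

variable {X Y : Scheme.{u}} (p : X ⟶ Y) [QuasiCompact p] (δX : X → ℤ) (δY : Y → ℤ)

theorem mapCoeff_eq' (x : X) :
    AlgebraicCycle.mapCoeff p δX δY x = if δX x = δY (p x) then p.residueDegree x else 0 := rfl

theorem map_apply' (a : AlgebraicCycle X ℤ) (y : Y) :
    AlgebraicCycle.map p δX δY a y =
      ∑ᶠ x ∈ p ⁻¹' {y}, a x * ((AlgebraicCycle.mapCoeff p δX δY x : ℕ) : ℤ) := rfl

theorem finite_fibre_support (a : AlgebraicCycle X ℤ) (y : Y) :
    (p ⁻¹' {y} ∩ Function.support (fun x => a x *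
      ((AlgebraicCycle.mapCoeff p δX δY x : ℕ) : ℤ))).Finite := by
  obtain ⟨U, ⟨hUo, hUc⟩, hyU, -⟩ :=
    (PrespectralSpace.isTopologicalBasis (X := Y)).exists_subset_of_mem_open
      (Set.mem_univ y) isOpen_univ
  have hT : IsCompact (p ⁻¹' U) := p.isSpectralMap.2 hUo hUc
  refine (a.locallyFiniteSupport.finite_inter_support_of_isCompact hT).subset ?_
  rintro x ⟨hx, hxs⟩
  have hx' : p x = y := hx
  refine ⟨?_, ?_⟩
  · show p x ∈ U
    rw [hx']
    exact hyU
  · rw [Function.mem_support] at hxs ⊢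
    intro h0
    apply hxs
    have h0' : a x = 0 := h0
    rw [h0', zero_mul]

theorem map_add' (a b : AlgebraicCycle X ℤ) :
    AlgebraicCycle.map p δX δY (a + b) =
      AlgebraicCycle.map p δX δY a + AlgebraicCycle.map p δX δY b := by
  ext y
  rw [Function.locallyFinsuppWithin.coe_add, Pi.add_apply, map_apply', map_apply', map_apply',
    ← finsum_mem_add_distrib' (finite_fibre_support p δX δY a y)
      (finite_fibre_support p δX δY b y)]
  apply finsum_mem_congr rfl
  intro x _
  rw [Function.locallyFinsuppWithin.coe_add, Pi.add_apply, add_mul]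

theorem map_mem_Zk (k : ℤ) (a : AlgebraicCycle X ℤ) (ha : a ∈ Cyc.Zk X δX k) :
    AlgebraicCycle.map p δX δY a ∈ Cyc.Zk Y δY k := by
  intro y hy
  rw [map_apply']
  apply finsum_mem_eq_zero_of_forall_eq_zero
  intro x hx
  have hx' : p x = y := hx
  by_cases h1 : δX x = k
  · have h2 : AlgebraicCycle.mapCoeff p δX δY x = 0 := by
      rw [mapCoeff_eq', if_neg]
      rw [hx', h1]
      exact fun h => hy h.symm
    rw [h2, Nat.cast_zero, mul_zero]
  · rw [ha x h1, zero_mul]

/-- pushforward of `k`-cycles as a homomorphism -/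
noncomputable def mapZk (k : ℤ) : ↥(ChowOps.zk X δX k) →+ ↥(ChowOps.zk Y δY k) :=
  AddMonoidHom.mk' (fun a => ⟨AlgebraicCycle.map p δX δY a.1, map_mem_Zk p δX δY k a.1 a.2⟩)
    (fun a b => Subtype.ext (map_add' p δX δY a.1 b.1))

theorem mapZk_coe (k : ℤ) (a : ↥(ChowOps.zk X δX k)) :
    ((mapZk p δX δY k a : ↥(ChowOps.zk Y δY k)) : AlgebraicCycle Y ℤ) =
      AlgebraicCycle.map p δX δY a.1 := rfl

theorem map_zero' : AlgebraicCycle.map p δX δY (0 : AlgebraicCycle X ℤ) = 0 := by
  have h := map_add' p δX δY 0 0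
  rw [add_zero] at h
  exact left_eq_add.mp h

end Push

section Rat

variable {X Y : Scheme.{u}} (δX : X → ℤ) (δY : Y → ℤ)

theorem mapZk_mem_ratTriv (hX : Cyc.IsSetup X δX) (hY : Cyc.IsSetup Y δY) (p : X ⟶ Y)
    [IsProper p] (hδ : Cyc.DeltaCompat p δX δY) (k : ℤ) (a : ↥(ChowOps.zk X δX k))
    (ha : a ∈ ChowOps.ratTriv X δX k) : mapZk p δX δY k a ∈ ChowOps.ratTriv Y δY k := by
  have hle : ChowOps.ratTriv X δX k ≤ (ChowOps.ratTriv Y δY k).comap (mapZk p δX δY k) := by
    unfold ChowOps.ratTriv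
    rw [AddSubgroup.closure_le]
    intro b hb
    have hb' : Cyc.RatEquivZero δX k (b : AlgebraicCycle X ℤ) := hb
    show mapZk p δX δY k b ∈ AddSubgroup.closure _
    apply AddSubgroup.subset_closure
    show Cyc.RatEquivZero δY k (AlgebraicCycle.map p δX δY b.1)
    have h1 : Cyc.RatEquiv δX k b.1 0 := by
      unfold Cyc.RatEquiv
      rwa [sub_zero]
    have h2 := Groth.Agent.Helper7.PushRat.main X Y δX δY hX hY p hδ k b.1 0 h1
    unfold Cyc.RatEquiv at h2
    rwa [map_zero', sub_zero] at h2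
  exact hle ha

end Rat

section Main

theorem universallyInjective_Spec_of_purelyInseparable (k E : Type u) [Field k] [Field E]
    [Algebra k E] [IsPurelyInseparable k E] :
    UniversallyInjective (Spec.map (CommRingCat.ofHom (algebraMap k E))) := by
  have h := (tfae_universallyInjective (Spec.map (CommRingCat.ofHom (algebraMap k E)))).out 0 1
  rw [h]
  intro K _ g₁ g₂ hg
  obtain ⟨ψ₁, rfl⟩ := Spec.map_surjective g₁
  obtain ⟨ψ₂, rfl⟩ := Spec.map_surjective g₂
  dsimp only at hg
  rw [← Spec.map_comp, ← Spec.map_comp] at hg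
  have h' := Spec.map_injective hg
  congr 1
  ext1
  apply IsPurelyInseparable.injective_comp_algebraMap k E K
  exact congrArg CommRingCat.Hom.hom h'

theorem S15556_main (k E : Type u) [Field k] [Field E] [Algebra k E] (p : ℕ) [Fact p.Prime]
    [CharP k p] [Module.Finite k E] [IsPurelyInseparable k E] (X X' : Scheme.{u})
    (g : X ⟶ Spec (CommRingCat.of k)) (f : X' ⟶ X) (g' : X' ⟶ Spec (CommRingCat.of E))
    (hsq : IsPullback f g' g (Spec.map (CommRingCat.ofHom (algebraMap k E))))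
    (δ : X → ℤ) (δ' : X' → ℤ) (hX : Cyc.IsSetup X δ) (hX' : Cyc.IsSetup X' δ')
    (hδ : Cyc.DeltaCompat f δ' δ) (i : ℤ) :
    (∀ (β : AlgebraicCycle X' ℤ) (hβ : β ∈ Cyc.Zk X' δ' i),
      ∃ (α : AlgebraicCycle X ℤ) (hα : α ∈ Cyc.Zk X δ i) (α' : AlgebraicCycle X' ℤ)
        (hα' : α' ∈ Cyc.Zk X' δ' i) (s : ℕ),
        ⇑α' = Cyc.pullFun f δ' δ 0 ⇑α ∧ ChowOps.cl α' hα' = p ^ s • ChowOps.cl β hβ) ∧
    (∀ (α : AlgebraicCycle X ℤ) (hα : α ∈ Cyc.Zk X δ i) (α' : AlgebraicCycle X' ℤ)
      (hα' : α' ∈ Cyc.Zk X' δ' i), ⇑α' = Cyc.pullFun f δ' δ 0 ⇑α → ChowOps.cl α' hα' = 0 →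
        ∃ s : ℕ, p ^ s • ChowOps.cl α hα = 0) := by
  classical
  obtain ⟨s, hs⟩ := IsPurelyInseparable.finrank_eq_pow (F := k) E p
  haveI hφfin : IsFinite (Spec.map (CommRingCat.ofHom (algebraMap k E))) := by
    rw [IsFinite.SpecMap_iff]
    exact RingHom.finite_algebraMap.mpr inferInstance
  haveI hφflat : Flat (Spec.map (CommRingCat.ofHom (algebraMap k E))) := by
    rw [Flat.SpecMap_iff]
    exact (RingHom.flat_algebraMap_iff).mpr inferInstance
  haveI hφinj : UniversallyInjective (Spec.map (CommRingCat.ofHom (algebraMap k E))) :=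
    universallyInjective_Spec_of_purelyInseparable k E
  haveI hffin : IsFinite f := MorphismProperty.of_isPullback (P := @IsFinite) hsq.flip hφfin
  haveI hfflat : Flat f := MorphismProperty.of_isPullback (P := @Flat) hsq.flip hφflat
  haveI hfinj : UniversallyInjective f :=
    MorphismProperty.of_isPullback (P := @UniversallyInjective) hsq.flip hφinj
  have hinj : Function.Injective f := f.injective
  have hd : ∀ x : X, f.finrank x = p ^ s := by
    intro x
    rw [Scheme.Hom.finrank_of_isPullback g' f (Spec.map (CommRingCat.ofHom (algebraMap k E))) g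
      hsq.flip x, Scheme.Hom.finrank_SpecMap_algebraMap k E (g x),
      Module.rankAtStalk_eq_finrank_of_free, ← hs]
    rfl
  haveI : LocallyOfFiniteType f := inferInstance
  haveI : LocallyQuasiFinite f := inferInstance
  have hδx : ∀ x : X', δ' x = δ (f x) := by
    intro x
    have h1 := delta_eq_of_deltaCompat f δ' δ hδ x
    rw [tr_eq_zero_of_locallyQuasiFinite f x] at h1
    simpa using h1
  obtain ⟨-, hmp⟩ := FinDeg.map_pullFun X' X δ' δ f (p ^ s) hd hδ
  have hfib : ∀ x' : X', f ⁻¹' {f x'} = {x'} := by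
    intro x'
    ext z
    constructor
    · intro hz
      exact hinj hz
    · intro hz
      rw [Set.mem_singleton_iff] at hz
      rw [hz]
      rfl
  have hram : ∀ x' : X', (ram f x' : ℤ) * (f.residueDegree x' : ℤ) = ((p ^ s : ℕ) : ℤ) := by
    intro x'
    have h1 := sum_ram_residueDegree f (f x')
    rw [hd (f x')] at h1
    rw [← h1, finsum_set_coe_eq_finsum_mem (s := f ⁻¹' {f x'})
      (f := fun x => (ram f x : ℤ) * (f.residueDegree x : ℤ)), hfib x', finsum_mem_singleton]
  refine ⟨?_, ?_⟩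
  · intro β hβ
    have hα : AlgebraicCycle.map f δ' δ β ∈ Cyc.Zk X δ i := map_mem_Zk f δ' δ i β hβ
    have hα' : (p ^ s) • β ∈ Cyc.Zk X' δ' i := (ChowOps.zk X' δ' i).nsmul_mem hβ (p ^ s)
    refine ⟨AlgebraicCycle.map f δ' δ β, hα, (p ^ s) • β, hα', s, ?_, ?_⟩
    · funext x'
      have hlhs : ((p ^ s) • β) x' = ((p ^ s : ℕ) : ℤ) * β x' := by
        rw [Function.locallyFinsuppWithin.coe_nsmul]
        simp
      rw [hlhs, pullFun_apply, if_pos (by rw [hδx x']; ring)]
      show _ = (AlgebraicCycle.map f δ' δ β) (f x') * (ram f x' : ℤ)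
      rw [map_apply', hfib x', finsum_mem_singleton, mapCoeff_eq', if_pos (hδx x'), ← hram x']
      ring
    · show ChowOps.clHom X' δ' i ⟨(p ^ s) • β, hα'⟩ = p ^ s • ChowOps.clHom X' δ' i ⟨β, hβ⟩
      rw [← map_nsmul]
      rfl
  · intro α hα α' hα' hfun hcl
    refine ⟨s, ?_⟩
    have hmem : (⟨α', hα'⟩ : ↥(ChowOps.zk X' δ' i)) ∈ ChowOps.ratTriv X' δ' i :=
      (QuotientAddGroup.eq_zero_iff _).mp hcl
    have h2 := mapZk_mem_ratTriv δ' δ hX' hX f hδ i ⟨α', hα'⟩ hmem
    have h3 : mapZk f δ' δ i ⟨α', hα'⟩ = (p ^ s) • (⟨α, hα⟩ : ↥(ChowOps.zk X δ i)) := by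
      apply Subtype.ext
      rw [mapZk_coe, AddSubgroup.coe_nsmul]
      exact hmp α α' hfun
    rw [h3] at h2
    show p ^ s • ChowOps.clHom X δ i ⟨α, hα⟩ = 0
    rw [← map_nsmul]
    exact (QuotientAddGroup.eq_zero_iff _).mpr h2

end Main

end Groth.Agent.Helper7.ChowPI
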